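import Groth.Agent.H76.DVRApprox

set_option autoImplicit false
set_option backward.isDefEq.respectTransparency false
universe u

namespace Groth.Agent.H53.DVRSp

/-- If every discrete valuation ring of a finitely generated field `L` over a Noetherian ring `B`
is centred on one of finitely many ring maps `C → L`, then so is every valuation ring of `L`
containing the image of `B`. -/
theorem exists_center_of_dvr_centers {B C L : Type u} [CommRing B] [IsNoetherianRing B] [CommRing C]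
    [Field L] (φ : B →+* L) (G : Finset L)
    (hG : Subfield.closure (Set.range φ ∪ (G : Set L)) = ⊤)
    (T : Finset (C →+* L)) (hTne : T.Nonempty) (V : ValuationSubring L) (hV : ∀ b, φ b ∈ V)
    (H : ∀ R' : ValuationSubring L, IsDiscreteValuationRing R' → (∀ b, φ b ∈ R') →
      ∃ σ ∈ T, ∀ c, σ c ∈ R') :
    ∃ σ ∈ T, ∀ c, σ c ∈ V := by
  classical
  by_contra hcon
  push Not at hcon
  choose! cσ hcσ using hcon
  let d : Finset L := T.image (fun σ => (σ (cσ σ))⁻¹)
  have hne : ∀ σ ∈ T, σ (cσ σ) ≠ 0 := by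
    intro σ hσ h0
    exact hcσ σ hσ (h0 ▸ V.zero_mem)
  have hd : ∀ x ∈ d, V.valuation x < 1 := by
    intro x hx
    obtain ⟨σ, hσ, rfl⟩ := Finset.mem_image.1 hx
    have h1 : ¬ V.valuation (σ (cσ σ)) ≤ 1 := by
      rw [ValuationSubring.valuation_le_one_iff]
      exact hcσ σ hσ
    exact (Valuation.one_lt_val_iff _ (hne σ hσ)).1 (not_le.1 h1)
  have hd0 : ∃ x ∈ d, x ≠ 0 := by
    obtain ⟨σ, hσ⟩ := hTne
    exact ⟨_, Finset.mem_image_of_mem _ hσ, inv_ne_zero (hne σ hσ)⟩
  obtain ⟨R', hR'dvr, hR'φ, -, hR'd⟩ :=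
    Groth.Agent.H76.DVRApprox.exists_dvr_approx φ V hV d hd hd0 G hG
  obtain ⟨σ, hσ, hσR'⟩ := H R' hR'dvr hR'φ
  have h1 : R'.valuation (σ (cσ σ))⁻¹ < 1 := hR'd _ (Finset.mem_image_of_mem _ hσ)
  have h2 : 1 < R'.valuation (σ (cσ σ)) := (Valuation.one_lt_val_iff _ (hne σ hσ)).2 h1
  have h3 : R'.valuation (σ (cσ σ)) ≤ 1 := (ValuationSubring.valuation_le_one_iff _ _).2 (hσR' _)
  exact absurd h2 (not_lt.2 h3)

end Groth.Agent.H53.DVRSp
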