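import Mathlib

set_option autoImplicit false
set_option backward.isDefEq.respectTransparency false
universe u

namespace Groth.Agent.H53.DVRSp

/-- Inside the subfield generated by a set, the preimage of the set generates everything. -/
theorem subfield_closure_coe_preimage {Ω : Type u} [Field Ω] (Z : Set Ω) :
    Subfield.closure (((↑) : Subfield.closure Z → Ω) ⁻¹' Z) = ⊤ := by
  rw [eq_top_iff]
  rintro ⟨y, hy⟩ -
  induction hy using Subfield.closure_induction with
  | mem x hx => exact Subfield.subset_closure hx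
  | one => exact one_mem _
  | add x y hx hy hx' hy' => exact add_mem hx' hy'
  | neg x hx hx' => exact neg_mem hx'
  | inv x hx hx' => exact inv_mem hx'
  | mul x y hx hy hx' hy' => exact mul_mem hx' hy'

/-- The image of a finite type algebra in a field lies in any subfield containing the images of the
base ring and of finitely many generators. -/
theorem exists_finset_forall_mem {B D Ω : Type u} [CommRing B] [CommRing D] [Field Ω]
    (ρD : B →+* D) (hft : ρD.FiniteType) :
    ∃ s : Finset D, ∀ (δ : D →+* Ω) (K₀ : Subfield Ω), (∀ b, δ (ρD b) ∈ K₀) → (∀ x ∈ s, δ x ∈ K₀) →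
      ∀ x, δ x ∈ K₀ := by
  let alg : Algebra B D := ρD.toAlgebra
  have hft' : Algebra.FiniteType B D := hft
  obtain ⟨s, hs⟩ := hft'.out
  refine ⟨s, fun δ K₀ h1 h2 x => ?_⟩
  have hx : x ∈ Algebra.adjoin B (s : Set D) := hs ▸ Algebra.mem_top
  induction hx using Algebra.adjoin_induction with
  | mem x hx => exact h2 x hx
  | algebraMap r => exact h1 r
  | add x y _ _ hx hy => rw [map_add]; exact add_mem hx hy
  | mul x y _ _ hx hy => rw [map_mul]; exact mul_mem hx hy

/-- A valuation ring dominating a valuation subring of a subfield meets the subfield in it. -/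
theorem mem_of_dominates {Ω K'' A'' : Type u} [Field Ω] [Field K''] (V : ValuationSubring Ω)
    [CommRing A''] [IsDomain A''] [Algebra A'' K''] [IsFractionRing A'' K''] (φ'' : V →+* A'')
    (hloc : IsLocalHom φ'') (ι'' : Ω →+* K'')
    (hcomp : ∀ v : V, ι'' v = algebraMap A'' K'' (φ'' v)) (x : Ω) (a : A'')
    (hx : ι'' x = algebraMap A'' K'' a) : x ∈ V := by
  by_contra hxV
  have hx0 : x ≠ 0 := fun h => hxV (h ▸ V.zero_mem)
  have hinv : x⁻¹ ∈ V := (V.mem_or_inv_mem x).resolve_left hxV
  let v : V := ⟨x⁻¹, hinv⟩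
  have h1 : algebraMap A'' K'' (φ'' v * a) = 1 := by
    rw [map_mul, ← hcomp, ← hx, ← map_mul]
    change ι'' (x⁻¹ * x) = 1
    rw [inv_mul_cancel₀ hx0, map_one]
  have h2 : φ'' v * a = 1 := by
    apply IsFractionRing.injective A'' K''
    rw [h1, map_one]
  have h3 : IsUnit (φ'' v) := IsUnit.of_mul_eq_one _ h2
  have h4 : IsUnit v := hloc.map_nonunit v h3
  obtain ⟨w, hw⟩ := h4.exists_right_inv
  apply hxV
  have h5 : (w : Ω) = x := by
    have := congrArg (fun z : V => (z : Ω)) hw
    change x⁻¹ * (w : Ω) = 1 at this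
    field_simp at this
    exact this
  rw [← h5]
  exact w.2

end Groth.Agent.H53.DVRSp
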