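import Groth.Agent.H53.RefVal.Chart
import Groth.Agent.H52.QC5
import Groth.Agent.H52.LocPCalc4
import Groth.Agent.H52.LocPInst

set_option autoImplicit false
set_option backward.isDefEq.respectTransparency false
universe u
open CategoryTheory CategoryTheory.Limits AlgebraicGeometry
open AlgSp

namespace Groth.Agent.H53.DVRSp

open Groth.Agent.H53.RefVal Groth.Agent.H52 Groth.Agent.H52.UC

variable {S : Scheme.{u}}

/-- A quasi-compact space over `Spec B` has an affine étale surjective chart in normal form. -/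
theorem exists_normal_chart {B : Type u} [CommRing B] (sB : Spec (CommRingCat.of B) ⟶ S)
    {X : Sp S} (f : X ⟶ (yon S).obj (Over.mk sB)) (hXqc : IsQuasiCompactSp X) :
    ∃ (C : Type u) (_ : CommRing C) (ρC : B →+* C)
      (p : (yon S).obj (Over.mk (Spec.map (CommRingCat.ofHom ρC) ≫ sB)) ⟶ X),
      RepWith @Etale p ∧ RepWith @Surjective p ∧ p ≫ f = (yon S).map (spHom ρC rfl) := by
  have hE : (RepWith (S := S) @Etale).IsMultiplicative := repWith_isMultiplicative _
  have hSj : (RepWith (S := S) @Surjective).IsMultiplicative := repWith_isMultiplicative _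
  obtain ⟨W, c₁, hWaff, hc₁e, hc₁s⟩ := exists_affine_etale_chart' hXqc
  have _ : IsAffine W.left := hWaff
  obtain ⟨C, _, _, eW, heW⟩ := exists_ZA_iso sB W ((yon S).preimage (c₁ ≫ f))
  have hiso : Etale eW.hom.left := inferInstance
  have hiso' : Surjective eW.hom.left := inferInstance
  refine ⟨C, inferInstance, algebraMap B C, (yon S).map eW.hom ≫ c₁, ?_, ?_, ?_⟩
  · exact hE.comp_mem _ _ ((repWith_yon_map_iff _ _).2 hiso) hc₁e
  · exact hSj.comp_mem _ _ ((repWith_yon_map_iff _ _).2 hiso') hc₁s
  · rw [Category.assoc]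
    have h1 : c₁ ≫ f = (yon S).map ((yon S).preimage (c₁ ≫ f)) := (Functor.map_preimage _ _).symm
    rw [h1, ← Functor.map_comp, heW]
    rfl

/-- The ring of a normal-form étale chart of a space locally of finite type over `Spec B` is of
finite type over `B`. -/
theorem finiteType_of_chart {B C : Type u} [CommRing B] [CommRing C]
    (sB : Spec (CommRingCat.of B) ⟶ S) {X : Sp S} (f : X ⟶ (yon S).obj (Over.mk sB))
    (hf : LocP @LocallyOfFiniteType f) (ρC : B →+* C)
    (p : (yon S).obj (Over.mk (Spec.map (CommRingCat.ofHom ρC) ≫ sB)) ⟶ X)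
    (hpe : RepWith @Etale p) (hpf : p ≫ f = (yon S).map (spHom ρC rfl)) : ρC.FiniteType := by
  have h1 : LocallyOfFiniteType (spHom (S := S) (s := sB) ρC rfl).left :=
    hf p (𝟙 _) (spHom ρC rfl) hpe (repWith_id @Etale _) (by rw [hpf, Category.comp_id])
  have h2 : LocallyOfFiniteType (Spec.map (CommRingCat.ofHom ρC)) := h1
  exact (HasRingHomProperty.Spec_iff (P := @LocallyOfFiniteType)).1 h2

/-- A normal-form chart of a space quasi-separated over `Spec B` is quasi-compact. -/
theorem repWith_quasiCompact_chart {B C : Type u} [CommRing B] [CommRing C]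
    (sB : Spec (CommRingCat.of B) ⟶ S) {X : Sp S} (hX : IsAlgSpace X)
    (f : X ⟶ (yon S).obj (Over.mk sB)) (hfqs : IsQuasiSeparatedMor f) (ρC : B →+* C)
    (p : (yon S).obj (Over.mk (Spec.map (CommRingCat.ofHom ρC) ≫ sB)) ⟶ X) :
    RepWith @QuasiCompact p := by
  have _ : CompactSpace ↥(Over.mk (Spec.map (CommRingCat.ofHom ρC) ≫ sB)).left :=
    inferInstanceAs (CompactSpace ↥(Spec _))
  have _ : QuasiSeparatedSpace ↥(Over.mk sB).left :=
    inferInstanceAs (QuasiSeparatedSpace ↥(Spec _))
  have hgf : IsQuasiCompactMor (p ≫ f) := isQuasiCompactMor_to_yon (isQuasiCompactSp_yon _) _ _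
  have hpq : IsQuasiCompactMor p :=
    isQuasiCompactMor_of_comp (IsAlgSpace.yon_obj _) hX (IsAlgSpace.yon_obj _) p f hgf hfqs
  exact repWith_quasiCompact_of_isQuasiCompactMor p (hX.representable_from_yon p) hpq

end Groth.Agent.H53.DVRSp
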