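import Groth.Agent.H53.DVRSp.Lifts
import Groth.Agent.H53.DVRSp.Charts
import Groth.Agent.H53.DVRSp.Alg2
import Groth.Agent.H53.ValuativeFlat
import Groth.Agent.H53.AffineChart
import Groth.Agent.H52.Points

set_option autoImplicit false
set_option backward.isDefEq.respectTransparency false
universe u
open CategoryTheory CategoryTheory.Limits AlgebraicGeometry
open AlgSp

namespace Groth.Agent.H53.DVRSp

open Groth.Agent.H53.RefVal Groth.Agent.H52

/-- Domination: an element of the fraction field of a valuation ring `A` that becomes integral in a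
dominating local domain is in `A`. -/
theorem exists_algebraMap_eq_of_dominates {A Ω K'' A'' : Type u} [CommRing A] [IsDomain A]
    [ValuationRing A] [Field Ω] [Algebra A Ω] [IsFractionRing A Ω] [Field K''] [CommRing A'']
    [IsDomain A''] [Algebra A'' K''] [IsFractionRing A'' K''] (φ'' : A →+* A'')
    (hloc : IsLocalHom φ'') (ι'' : Ω →+* K'')
    (hcomp : ∀ a : A, ι'' (algebraMap A Ω a) = algebraMap A'' K'' (φ'' a)) (x : Ω) (a'' : A'')
    (hx : ι'' x = algebraMap A'' K'' a'') : ∃ a : A, algebraMap A Ω a = x := by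
  rcases ValuationRing.isInteger_or_isInteger A x with ⟨a, ha⟩ | ⟨a, ha⟩
  · exact ⟨a, ha⟩
  · by_cases hx0 : x = 0
    · exact ⟨0, by rw [map_zero, hx0]⟩
    have h1 : algebraMap A'' K'' (φ'' a * a'') = 1 := by
      rw [map_mul, ← hcomp, ← hx, ← map_mul]
      have : algebraMap A Ω a = x⁻¹ := ha
      rw [this, inv_mul_cancel₀ hx0, map_one]
    have h2 : φ'' a * a'' = 1 := by
      apply IsFractionRing.injective A'' K''
      rw [h1, map_one]
    have h3 : IsUnit (φ'' a) := IsUnit.of_mul_eq_one _ h2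
    have h4 : IsUnit a := hloc.map_nonunit a h3
    obtain ⟨w, hw⟩ := h4.exists_right_inv
    refine ⟨w, ?_⟩
    have h5 := congrArg (algebraMap A Ω) hw
    rw [map_mul, map_one] at h5
    have : algebraMap A Ω a = x⁻¹ := ha
    rw [this] at h5
    field_simp at h5
    exact h5

variable {S : Scheme.{u}}

/-- A valuation-ring-valued point of `X` whose generic point is the given `Ω`-point lifts to the
chart through one of the finitely many lifts of the `Ω`-point. -/
theorem exists_lift_in_T {C : Type u} [CommRing C] (sC : Spec (CommRingCat.of C) ⟶ S) {X : Sp S}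
    (hX : IsAlgSpace X) (p : (yon S).obj (Over.mk sC) ⟶ X) (hpe : RepWith @Etale p)
    (hps : RepWith @Surjective p) {Ω : Type u} [Field Ω] (sΩ : Spec (CommRingCat.of Ω) ⟶ S)
    (x : (yon S).obj (Over.mk sΩ) ⟶ X) (T : Finset (C →+* Ω))
    (hTfac : ∀ (K : Type u) [Field K] (ι : Ω →+* K) (γ : C →+* K)
      (sK : Spec (CommRingCat.of K) ⟶ S) (wι : Spec.map (CommRingCat.ofHom ι) ≫ sΩ = sK)
      (wγ : Spec.map (CommRingCat.ofHom γ) ≫ sC = sK),
      (yon S).map (spHom γ wγ) ≫ p = (yon S).map (spHom ι wι) ≫ x → ∃ σ ∈ T, γ = ι.comp σ)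
    (A : Type u) [CommRing A] [IsDomain A] [ValuationRing A] [Algebra A Ω] [IsFractionRing A Ω]
    (sA : Spec (CommRingCat.of A) ⟶ S)
    (wA : Spec.map (CommRingCat.ofHom (algebraMap A Ω)) ≫ sA = sΩ)
    (l : (yon S).obj (Over.mk sA) ⟶ X)
    (hl : (yon S).map (spHom (algebraMap A Ω) wA) ≫ l = x) :
    ∃ σ ∈ T, ∀ c, ∃ a : A, algebraMap A Ω a = σ c := by
  have hsurj := surjective_points_of_repWith_surjective p hps
  obtain ⟨A'', _, _, _, φ'', hφinj, hφloc, lb, hlb⟩ :=
    Groth.Agent.H53.exists_valuationRing_lift_of_flat (IsAlgSpace.yon_obj _) hX p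
      (Groth.Agent.H53.AffineChart.locP_flat_lfp_of_etale p hpe).1 A sA l (hsurj _)
  obtain ⟨lbO, hlbO⟩ := (yon S).map_surjective lb
  obtain ⟨c'', wc'', hc''⟩ := exists_spHom_eq lbO
  let K'' := FractionRing A''
  have hg : Function.Injective ((algebraMap A'' K'').comp φ'') :=
    (IsFractionRing.injective A'' K'').comp hφinj
  let ι'' : Ω →+* K'' := IsFractionRing.lift hg
  have hι'' : ∀ a, ι'' (algebraMap A Ω a) = algebraMap A'' K'' (φ'' a) :=
    fun a => IsFractionRing.lift_algebraMap hg a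
  have r1 : ι''.comp (algebraMap A Ω) = (algebraMap A'' K'').comp φ'' := by
    ext a
    exact hι'' a
  have wι : Spec.map (CommRingCat.ofHom ι'') ≫ sΩ =
      Spec.map (CommRingCat.ofHom (algebraMap A'' K'')) ≫
        Spec.map (CommRingCat.ofHom φ'') ≫ sA := by
    rw [← wA]
    spec_w
    exact spec_eq_of_eq sA r1
  have wγ : Spec.map (CommRingCat.ofHom ((algebraMap A'' K'').comp c'')) ≫ sC =
      Spec.map (CommRingCat.ofHom (algebraMap A'' K'')) ≫
        Spec.map (CommRingCat.ofHom φ'') ≫ sA := by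
    rw [CommRingCat.ofHom_comp, Spec.map_comp, Category.assoc, wc'']
  have hlb' : lb ≫ p = (yon S).map (spHom φ'' rfl) ≫ l := hlb
  have hcompat : (yon S).map (spHom ((algebraMap A'' K'').comp c'') wγ) ≫ p =
      (yon S).map (spHom ι'' wι) ≫ x := by
    have e1 : (yon S).map (spHom ((algebraMap A'' K'').comp c'') wγ) =
        (yon S).map (spHom (algebraMap A'' K'') rfl) ≫ (yon S).map (spHom c'' wc'') :=
      (yon_spHom_comp c'' wc'' (algebraMap A'' K'') rfl).symm
    rw [e1, Category.assoc, hc'', hlbO, hlb', ← hl, yon_spHom_comp_assoc, yon_spHom_comp_assoc]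
    exact congrArg (· ≫ l) (yon_spHom_congr _ _ r1.symm)
  obtain ⟨σ, hσ, hγ⟩ := hTfac K'' ι'' ((algebraMap A'' K'').comp c'') _ wι wγ hcompat
  refine ⟨σ, hσ, fun c => ?_⟩
  refine exists_algebraMap_eq_of_dominates φ'' hφloc ι'' hι'' (σ c) (c'' c) ?_
  exact (congrArg (fun k : C →+* K'' => k c) hγ).symm

end Groth.Agent.H53.DVRSp
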