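import Groth.Agent.H53.DVRSp.Sections
import Groth.Agent.H53.RefVal.SpHom

set_option autoImplicit false
set_option backward.isDefEq.respectTransparency false
universe u
open CategoryTheory CategoryTheory.Limits AlgebraicGeometry
open AlgSp

namespace Groth.Agent.H53.DVRSp

open Groth.Agent.H53.RefVal

variable {S : Scheme.{u}}

/-- For a quasi-compact étale chart `Spec C ⟶ X` and a point of `X` with values in an algebraically
closed field `Ω`, there are finitely many lifts `C → Ω`, and every lift with values in an extension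
field comes from one of them. -/
theorem exists_finite_lifts {C : Type u} [CommRing C] (sC : Spec (CommRingCat.of C) ⟶ S) {X : Sp S}
    (p : (yon S).obj (Over.mk sC) ⟶ X) (hpe : RepWith @Etale p) (hpq : RepWith @QuasiCompact p)
    {Ω : Type u} [Field Ω] [IsAlgClosed Ω] (sΩ : Spec (CommRingCat.of Ω) ⟶ S)
    (x : (yon S).obj (Over.mk sΩ) ⟶ X) :
    ∃ T : Finset (C →+* Ω),
      (∀ σ ∈ T, ∃ w : Spec.map (CommRingCat.ofHom σ) ≫ sC = sΩ,
        (yon S).map (spHom σ w) ≫ p = x) ∧
      ∀ (K : Type u) [Field K] (ι : Ω →+* K) (γ : C →+* K) (sK : Spec (CommRingCat.of K) ⟶ S)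
        (wι : Spec.map (CommRingCat.ofHom ι) ≫ sΩ = sK)
        (wγ : Spec.map (CommRingCat.ofHom γ) ≫ sC = sK),
        (yon S).map (spHom γ wγ) ≫ p = (yon S).map (spHom ι wι) ≫ x → ∃ σ ∈ T, γ = ι.comp σ := by
  classical
  have hrep := hpe.rep
  have sq := hrep.isPullback x
  have hge : Etale (hrep.snd x).left := hpe.property_snd x
  have hgq : QuasiCompact (hrep.snd x).left := hpq.property_snd x
  obtain ⟨fstO, hfstO⟩ := (yon S).map_surjective (hrep.fst x)
  obtain ⟨𝒮, h𝒮fin, h𝒮sec, h𝒮fac⟩ := exists_finite_sections (hrep.snd x).left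
  let F : (Spec (CommRingCat.of Ω) ⟶ (hrep.pullback x).left) → (C →+* Ω) :=
    fun s => (Spec.preimage (s ≫ fstO.left)).hom
  have hF : ∀ s, Spec.map (CommRingCat.ofHom (F s)) = s ≫ fstO.left := fun s => Spec.map_preimage _
  refine ⟨h𝒮fin.toFinset.image F, ?_, ?_⟩
  · intro σ hσ
    obtain ⟨s, hs, rfl⟩ := Finset.mem_image.1 hσ
    have hs' : s ∈ 𝒮 := h𝒮fin.mem_toFinset.1 hs
    have hsec : s ≫ (hrep.snd x).left = 𝟙 _ := h𝒮sec s hs'
    have ws : s ≫ (hrep.pullback x).hom = sΩ := by
      rw [← Over.w (hrep.snd x), ← Category.assoc, hsec]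
      exact Category.id_comp sΩ
    let sO : Over.mk sΩ ⟶ hrep.pullback x := Over.homMk s ws
    have w : Spec.map (CommRingCat.ofHom (F s)) ≫ sC = sΩ := by
      rw [hF, Category.assoc]
      have := Over.w fstO
      change fstO.left ≫ sC = _ at this
      rw [this, ws]
    refine ⟨w, ?_⟩
    have e1 : spHom (F s) w = sO ≫ fstO := by
      apply Over.OverMorphism.ext
      rw [spHom_left, Over.comp_left]
      exact hF s
    have e2 : sO ≫ hrep.snd x = 𝟙 _ := by
      apply Over.OverMorphism.ext
      rw [Over.comp_left]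
      exact hsec
    rw [e1, Functor.map_comp, Category.assoc, hfstO, sq.w, ← Category.assoc, ← Functor.map_comp, e2,
      CategoryTheory.Functor.map_id]
    exact Category.id_comp x
  · intro K _ ι γ sK wι wγ hcomp
    obtain ⟨mO, hmO⟩ := (yon S).map_surjective (sq.lift _ _ hcomp)
    have hm1 : mO ≫ fstO = spHom γ wγ := by
      apply (yon S).map_injective
      rw [Functor.map_comp, hmO, hfstO, sq.lift_fst]
    have hm2 : mO ≫ hrep.snd x = spHom ι wι := by
      apply (yon S).map_injective
      rw [Functor.map_comp, hmO, sq.lift_snd]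
    obtain ⟨s, hs, hms⟩ := h𝒮fac K mO.left
    refine ⟨F s, Finset.mem_image.2 ⟨s, h𝒮fin.mem_toFinset.2 hs, rfl⟩, ?_⟩
    have h1 : mO.left ≫ fstO.left = Spec.map (CommRingCat.ofHom γ) := by
      have := congrArg (fun k => k.left) hm1
      exact this
    have h2 : mO.left ≫ (hrep.snd x).left = Spec.map (CommRingCat.ofHom ι) := by
      have := congrArg (fun k => k.left) hm2
      exact this
    have h3 : Spec.map (CommRingCat.ofHom γ) = Spec.map (CommRingCat.ofHom (ι.comp (F s))) := by
      rw [CommRingCat.ofHom_comp, Spec.map_comp, hF, ← h2, ← h1]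
      conv_lhs => rw [hms]
      simp only [Category.assoc]
    exact congrArg (fun k => k.hom) (Spec.map_injective h3)

end Groth.Agent.H53.DVRSp
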