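import Groth.Agent.H53.DVRSp.LiftT
import Groth.Agent.H53.DVRSp.Alg
import Groth.Agent.H53.RefVal.Gen2
import Groth.Agent.H52.LocNoeth

set_option autoImplicit false
set_option backward.isDefEq.respectTransparency false
universe u
open CategoryTheory CategoryTheory.Limits AlgebraicGeometry IsLocalRing
open AlgSp

namespace Groth.Agent.H53.DVRSp

open Groth.Agent.H53.RefVal Groth.Agent.H52

variable {S : Scheme.{u}}

theorem hasLiftExt_of_dvr_lifts_affine {B : Type u} [CommRing B] [IsNoetherianRing B]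
    (sB : Spec (CommRingCat.of B) ⟶ S) {U X : Sp S} (hU : IsAlgSpace U) (hX : IsAlgSpace X)
    (f : X ⟶ (yon S).obj (Over.mk sB)) (h : U ⟶ X)
    (hflft : LocP @LocallyOfFiniteType f) (hfqc : IsQuasiCompactMor f)
    (hfqs : IsQuasiSeparatedMor f) (hhlft : LocP @LocallyOfFiniteType h)
    (Hdvr : ∀ sq : ValSq (h ≫ f), IsDiscreteValuationRing sq.A →
      ∃ l : (yon S).obj sq.ptA ⟶ X, (yon S).map sq.j ≫ l = sq.top ≫ h ∧ l ≫ f = sq.bot)
    (sq : ValSq f) (t : (yon S).obj sq.ptK ⟶ U) (ht : t ≫ h = sq.top) : sq.HasLiftExt := by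
  classical
  obtain ⟨botO, hbotO⟩ := (yon S).map_surjective sq.bot
  obtain ⟨ρA, hρA, hρAeq⟩ := exists_spHom_eq botO
  have hYalg : IsAlgSpace ((yon S).obj (Over.mk sB)) := IsAlgSpace.yon_obj _
  have _ : CompactSpace ↥(Over.mk sB).left := inferInstanceAs (CompactSpace ↥(Spec _))
  have hXqc : IsQuasiCompactSp X :=
    isQuasiCompactSp_of_isQuasiCompactMor hYalg f hfqc (isQuasiCompactSp_yon _)
  -- the chart of `X`
  obtain ⟨C, _, ρC, p, hpe, hps, hpf⟩ := exists_normal_chart sB f hXqc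
  have hCft : ρC.FiniteType := finiteType_of_chart sB f hflft ρC p hpe hpf
  have hpq : RepWith @QuasiCompact p := repWith_quasiCompact_chart sB hX f hfqs ρC p
  -- the chart of `U` through the point
  have hhf : LocP @LocallyOfFiniteType (h ≫ f) :=
    isEtLocal_lft.locP_comp hU hX hYalg h f hhlft hflft
  obtain ⟨D, _, ρD, b, K₁, _, ψ₁, μ, hμ, hbe, hbf, hbμ⟩ :=
    exists_chart_lift sB hU (h ≫ f) sq.ptK.hom t
  have hDft : ρD.FiniteType := finiteType_of_chart sB (h ≫ f) hhf ρD b hbe hbf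
  have hcomm : sq.top ≫ f =
      (yon S).map (spHom ((algebraMap sq.A sq.K).comp ρA) (by
        rw [← hρA]; spec_w) : sq.ptK ⟶ Over.mk sB) := by
    rw [sq.comm, ← hbotO, ← hρAeq]
    exact yon_spHom_comp _ _ _ _
  have r1 : μ.comp ρD = ψ₁.comp ((algebraMap sq.A sq.K).comp ρA) := by
    have e1 : (yon S).map (spHom μ hμ) ≫ b ≫ (h ≫ f) =
        (yon S).map (spHom ψ₁ rfl) ≫ (t ≫ h) ≫ f := by
      rw [← Category.assoc, hbμ, Category.assoc, Category.assoc]
    rw [hbf, ht, hcomm, yon_spHom_comp, yon_spHom_comp] at e1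
    exact eq_of_yon_spHom_eq _ _ e1
  -- the algebraically closed field
  let Ω := AlgebraicClosure K₁
  let ι₁ : K₁ →+* Ω := algebraMap K₁ Ω
  let ψΩ : sq.K →+* Ω := ι₁.comp ψ₁
  let δΩ : D →+* Ω := ι₁.comp μ
  let φΩ : B →+* Ω := δΩ.comp ρD
  have r1Ω : φΩ = (ψΩ.comp (algebraMap sq.A sq.K)).comp ρA := by
    ext b'
    change ι₁ ((μ.comp ρD) b') = ι₁ (ψ₁ ((algebraMap sq.A sq.K) (ρA b')))
    rw [r1]
    rfl
  let sΩ : Spec (CommRingCat.of Ω) ⟶ S := Spec.map (CommRingCat.ofHom ψΩ) ≫ sq.ptK.hom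
  have hsΩ : sΩ = Spec.map (CommRingCat.ofHom φΩ) ≫ sB := by
    change Spec.map (CommRingCat.ofHom ψΩ) ≫
      Spec.map (CommRingCat.ofHom (algebraMap sq.A sq.K)) ≫ sq.str = _
    rw [← hρA]
    spec_w
    exact spec_eq_of_eq sB r1Ω.symm
  let x : (yon S).obj (Over.mk sΩ) ⟶ X := (yon S).map (spHom ψΩ rfl) ≫ sq.top
  have wδ : Spec.map (CommRingCat.ofHom δΩ) ≫ (Spec.map (CommRingCat.ofHom ρD) ≫ sB) = sΩ := by
    rw [hsΩ]
    spec_w
    exact spec_eq_of_eq sB rfl
  have wι₁ : Spec.map (CommRingCat.ofHom ι₁) ≫ (Spec.map (CommRingCat.ofHom ψ₁) ≫ sq.ptK.hom) =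
      sΩ := by
    change _ = Spec.map (CommRingCat.ofHom (ι₁.comp ψ₁)) ≫ sq.ptK.hom
    spec_w
  have hx0 : x = (yon S).map (spHom δΩ wδ) ≫ b ≫ h := by
    have e1 : (yon S).map (spHom δΩ wδ) =
        (yon S).map (spHom ι₁ wι₁) ≫ (yon S).map (spHom μ hμ) :=
      (yon_spHom_comp μ hμ ι₁ wι₁).symm
    have e2 : (yon S).map (spHom ψΩ rfl : Over.mk sΩ ⟶ sq.ptK) =
        (yon S).map (spHom ι₁ wι₁) ≫ (yon S).map (spHom ψ₁ rfl) :=
      (yon_spHom_comp ψ₁ rfl ι₁ wι₁).symm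
    change (yon S).map (spHom ψΩ rfl) ≫ sq.top = _
    rw [e1, e2, Category.assoc, Category.assoc, ← ht]
    have e3 := congrArg (· ≫ h) hbμ
    simp only [Category.assoc] at e3
    rw [e3]
  have hxf : x ≫ f = (yon S).map (spHom φΩ hsΩ.symm) := by
    rw [hx0, Category.assoc, Category.assoc, hbf, yon_spHom_comp]
  obtain ⟨T, hTcompat, hTfac⟩ :=
    exists_finite_lifts (Spec.map (CommRingCat.ofHom ρC) ≫ sB) p hpe hpq sΩ x
  -- every lift is compatible with the base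
  have r2 : ∀ σ ∈ T, σ.comp ρC = φΩ := by
    intro σ hσ
    obtain ⟨w, hw⟩ := hTcompat σ hσ
    have e1 : (yon S).map (spHom σ w) ≫ p ≫ f = x ≫ f := by
      rw [← Category.assoc, hw]
    rw [hpf, hxf, yon_spHom_comp] at e1
    exact eq_of_yon_spHom_eq _ _ e1
  -- `T` is nonempty
  have hTne : T.Nonempty := by
    have wid : Spec.map (CommRingCat.ofHom (algebraMap Ω Ω)) ≫ sΩ = sΩ := by
      have : algebraMap Ω Ω = RingHom.id Ω := rfl
      rw [this, CommRingCat.ofHom_id, Spec.map_id]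
      exact Category.id_comp sΩ
    have hid : (yon S).map (spHom (algebraMap Ω Ω) wid) ≫ x = x := by
      have e1 : spHom (algebraMap Ω Ω) wid = 𝟙 (Over.mk sΩ) := by
        apply Over.OverMorphism.ext
        rw [spHom_left]
        have : algebraMap Ω Ω = RingHom.id Ω := rfl
        rw [this, CommRingCat.ofHom_id, Spec.map_id]
        rfl
      rw [e1, CategoryTheory.Functor.map_id]
      exact Category.id_comp x
    obtain ⟨σ, hσ, -⟩ := exists_lift_in_T (Spec.map (CommRingCat.ofHom ρC) ≫ sB) hX p hpe hps sΩ x T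
      hTfac Ω sΩ wid x hid
    exact ⟨σ, hσ⟩
  -- the valuation ring of `Ω` dominating `sq.A`
  obtain ⟨VΩ, hVΩ, hlocΩ⟩ := IsLocalRing.exists_factor_valuationRing
    (ψΩ.comp (algebraMap sq.A sq.K))
  -- the finitely generated subfield
  obtain ⟨sD, hsD⟩ := exists_finset_forall_mem (Ω := Ω) ρD hDft
  obtain ⟨sC, hsC⟩ := exists_finset_forall_mem (Ω := Ω) ρC hCft
  let GΩ : Finset Ω := sD.image δΩ ∪ T.biUnion (fun σ => sC.image σ)
  let Z : Set Ω := Set.range φΩ ∪ (GΩ : Set Ω)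
  let L : Subfield Ω := Subfield.closure Z
  have hφL : ∀ b', φΩ b' ∈ L := fun b' => Subfield.subset_closure (Or.inl ⟨b', rfl⟩)
  have hGL : ∀ g ∈ GΩ, g ∈ L := fun g hg => Subfield.subset_closure (Or.inr (Finset.mem_coe.2 hg))
  have hδL : ∀ d, δΩ d ∈ L := by
    refine hsD δΩ L (fun b' => hφL b') (fun d hd => hGL _ ?_)
    exact Finset.mem_union_left _ (Finset.mem_image_of_mem _ hd)
  have hσL : ∀ σ ∈ T, ∀ c, σ c ∈ L := by
    intro σ hσ
    refine hsC σ L (fun b' => ?_) (fun c hc => hGL _ ?_)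
    · have : σ (ρC b') = φΩ b' := congrArg (fun k : B →+* Ω => k b') (r2 σ hσ)
      rw [this]
      exact hφL b'
    · exact Finset.mem_union_right _ (Finset.mem_biUnion.2 ⟨σ, hσ, Finset.mem_image_of_mem _ hc⟩)
  let φL : B →+* L := φΩ.codRestrict L hφL
  let Gfin : Finset L := GΩ.attach.image (fun g => ⟨g.1, hGL g.1 g.2⟩)
  have hGLtop : Subfield.closure (Set.range φL ∪ (Gfin : Set L)) = ⊤ := by
    have h1 := subfield_closure_coe_preimage Z
    have hsub : ((↑) : L → Ω) ⁻¹' Z ⊆ Set.range φL ∪ (Gfin : Set L) := by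
      rintro ⟨y, hy⟩ (⟨b', hb'⟩ | hg)
      · exact Or.inl ⟨b', Subtype.ext hb'⟩
      · refine Or.inr (Finset.mem_coe.2 (Finset.mem_image.2 ⟨⟨y, Finset.mem_coe.1 hg⟩, Finset.mem_attach _ _, rfl⟩))
    exact top_le_iff.1 (h1 ▸ Subfield.closure_mono hsub)
  let TL : Finset (C →+* L) := T.attach.image (fun σ => σ.1.codRestrict L (hσL σ.1 σ.2))
  have hTLne : TL.Nonempty := by
    obtain ⟨σ, hσ⟩ := hTne
    exact ⟨_, Finset.mem_image_of_mem _ (Finset.mem_attach _ ⟨σ, hσ⟩)⟩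
  let VL : ValuationSubring L := VΩ.comap L.subtype
  have hVL : ∀ b', φL b' ∈ VL := by
    intro b'
    change φΩ b' ∈ VΩ
    rw [r1Ω]
    exact hVΩ (ρA b')
  let δL : D →+* L := δΩ.codRestrict L hδL
  have key : ∀ R' : ValuationSubring L, IsDiscreteValuationRing R' → (∀ b', φL b' ∈ R') →
      ∃ σ ∈ TL, ∀ c, σ c ∈ R' := by
    intro R' hR'dvr hR'φ
    let φR : B →+* R' := φL.codRestrict R'.toSubring hR'φ
    have r3 : δL.comp ρD = (algebraMap R' L).comp φR := by
      ext b'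
      rfl
    have wδL : Spec.map (CommRingCat.ofHom δL) ≫ (Spec.map (CommRingCat.ofHom ρD) ≫ sB) =
        Spec.map (CommRingCat.ofHom (algebraMap R' L)) ≫
          Spec.map (CommRingCat.ofHom φR) ≫ sB := by
      spec_w
      exact spec_eq_of_eq sB r3
    let sq' : ValSq (h ≫ f) :=
      { A := R', K := L, str := Spec.map (CommRingCat.ofHom φR) ≫ sB
        top := (yon S).map (spHom δL wδL) ≫ b
        bot := (yon S).map (spHom φR rfl)
        comm := by
          rw [Category.assoc, hbf, yon_spHom_comp]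
          exact (yon_spHom_congr _ _ r3).trans
            (yon_spHom_comp φR rfl (algebraMap R' L) rfl).symm }
    obtain ⟨l', hl'1, hl'2⟩ := Hdvr sq' hR'dvr
    have hl'1' : (yon S).map (spHom (algebraMap R' L) rfl) ≫ l' =
        ((yon S).map (spHom δL wδL) ≫ b) ≫ h := hl'1
    obtain ⟨V', hV', hloc'⟩ := IsLocalRing.exists_factor_valuationRing
      (L.subtype.comp (algebraMap R' L))
    let κ' : R' →+* V' := (L.subtype.comp (algebraMap R' L)).codRestrict V'.toSubring hV'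
    have hκ'loc : IsLocalHom κ' := hloc'
    have r4 : (algebraMap V' Ω).comp κ' = L.subtype.comp (algebraMap R' L) := by
      ext r
      rfl
    have wA : Spec.map (CommRingCat.ofHom (algebraMap V' Ω)) ≫
        (Spec.map (CommRingCat.ofHom κ') ≫ Spec.map (CommRingCat.ofHom φR) ≫ sB) = sΩ := by
      rw [hsΩ]
      spec_w
      refine spec_eq_of_eq sB ?_
      ext b'
      rfl
    have wιL : Spec.map (CommRingCat.ofHom L.subtype) ≫
        (Spec.map (CommRingCat.ofHom (algebraMap R' L)) ≫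
          Spec.map (CommRingCat.ofHom φR) ≫ sB) = sΩ := by
      rw [hsΩ]
      spec_w
      refine spec_eq_of_eq sB ?_
      ext b'
      rfl
    have hl : (yon S).map (spHom (algebraMap V' Ω) wA) ≫ (yon S).map (spHom κ' rfl) ≫ l' = x := by
      rw [yon_spHom_comp_assoc]
      have e1 : (yon S).map (spHom ((algebraMap V' Ω).comp κ')
          (spHom_comp_w κ' rfl (algebraMap V' Ω) wA)) =
          (yon S).map (spHom L.subtype wιL) ≫ (yon S).map (spHom (algebraMap R' L) rfl) := by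
        rw [yon_spHom_comp]
        exact yon_spHom_congr _ _ r4
      rw [e1, Category.assoc, hl'1', hx0]
      simp only [Category.assoc]
      rw [yon_spHom_comp_assoc]
      exact congrArg (· ≫ b ≫ h) (yon_spHom_congr _ _ rfl)
    obtain ⟨σ, hσ, hσV'⟩ := exists_lift_in_T (Spec.map (CommRingCat.ofHom ρC) ≫ sB) hX p hpe hps
      sΩ x T hTfac V' (Spec.map (CommRingCat.ofHom κ') ≫ Spec.map (CommRingCat.ofHom φR) ≫ sB) wA
      ((yon S).map (spHom κ' rfl) ≫ l') hl
    refine ⟨σ.codRestrict L (hσL σ hσ),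
      Finset.mem_image.2 ⟨⟨σ, hσ⟩, Finset.mem_attach _ _, rfl⟩, fun c => ?_⟩
    obtain ⟨v, hv⟩ := hσV' c
    obtain ⟨r, hr⟩ := exists_algebraMap_eq_of_dominates (A := R') (Ω := L) (K'' := Ω) (A'' := V')
      κ' hκ'loc L.subtype (fun a => rfl) (⟨σ c, hσL σ hσ c⟩ : L) v hv.symm
    have : σ.codRestrict L (hσL σ hσ) c = algebraMap R' L r := hr.symm
    rw [this]
    exact r.2
  obtain ⟨σL, hσLmem, hσV⟩ := exists_center_of_dvr_centers φL Gfin hGLtop TL hTLne VL hVL key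
  obtain ⟨⟨σ, hσ⟩, -, rfl⟩ := Finset.mem_image.1 hσLmem
  have hσVΩ : ∀ c, σ c ∈ VΩ := fun c => hσV c
  -- the lift
  let σV : C →+* VΩ := σ.codRestrict VΩ.toSubring hσVΩ
  let φfin : sq.A →+* VΩ := (ψΩ.comp (algebraMap sq.A sq.K)).codRestrict VΩ.toSubring hVΩ
  have hφfinloc : IsLocalHom φfin := hlocΩ
  have hfincomm : (algebraMap VΩ Ω).comp φfin = ψΩ.comp (algebraMap sq.A sq.K) := by
    ext a
    rfl
  have r5 : σV.comp ρC = φfin.comp ρA := by
    ext b'
    change σ (ρC b') = ψΩ (algebraMap sq.A sq.K (ρA b'))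
    exact congrArg (fun k : B →+* Ω => k b') ((r2 σ hσ).trans r1Ω)
  have wσV : Spec.map (CommRingCat.ofHom σV) ≫ (Spec.map (CommRingCat.ofHom ρC) ≫ sB) =
      Spec.map (CommRingCat.ofHom φfin) ≫ sq.str := by
    rw [← hρA]
    spec_w
    exact spec_eq_of_eq sB r5
  have wa : Spec.map (CommRingCat.ofHom (algebraMap VΩ Ω)) ≫
      (Spec.map (CommRingCat.ofHom φfin) ≫ sq.str) = sΩ := by
    change _ = Spec.map (CommRingCat.ofHom ψΩ) ≫
      Spec.map (CommRingCat.ofHom (algebraMap sq.A sq.K)) ≫ sq.str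
    spec_w
    exact spec_eq_of_eq sq.str hfincomm
  refine hasLiftExt_of_lift sq φfin ψΩ hfincomm hφfinloc rfl wa rfl
    ((yon S).map (spHom σV wσV) ≫ p) ?_ ?_
  · obtain ⟨w, hw⟩ := hTcompat σ hσ
    rw [yon_spHom_comp_assoc]
    refine (congrArg (· ≫ p) (yon_spHom_congr _ w ?_)).trans hw
    ext c
    rfl
  · rw [Category.assoc, hpf, yon_spHom_comp, ← hbotO, ← hρAeq, yon_spHom_comp]
    exact yon_spHom_congr _ _ r5

end Groth.Agent.H53.DVRSp
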