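import Mathlib
set_option autoImplicit false
set_option backward.isDefEq.respectTransparency false
universe u
open CategoryTheory CategoryTheory.Limits AlgebraicGeometry

namespace Groth.Agent.H53.DVRSp

/-- Sections through an affine open of a scheme étale over an algebraically closed field. -/
theorem exists_finite_sections_aux {Ω : Type u} [Field Ω] [IsAlgClosed Ω] {Pl : Scheme.{u}}
    (g : Pl ⟶ Spec (CommRingCat.of Ω)) [Etale g] (R : CommRingCat.{u}) (i : Spec R ⟶ Pl)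
    [IsOpenImmersion i] :
    ∃ 𝒮 : Set (Spec (CommRingCat.of Ω) ⟶ Pl), 𝒮.Finite ∧ (∀ s ∈ 𝒮, s ≫ g = 𝟙 _) ∧
      ∀ (K : Type u) [Field K] (m : Spec (CommRingCat.of K) ⟶ Pl),
        Set.range m ⊆ Set.range i → ∃ s ∈ 𝒮, m = (m ≫ g) ≫ s := by
  let θ : CommRingCat.of Ω ⟶ R := Spec.preimage (i ≫ g)
  have hθ : Spec.map θ = i ≫ g := Spec.map_preimage _
  have hE : Etale (Spec.map θ) := by rw [hθ]; infer_instance
  have hθE : θ.hom.Etale := (HasRingHomProperty.Spec_iff (P := @Etale)).1 hE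
  let alg : Algebra Ω R := θ.hom.toAlgebra
  have hAE : Algebra.Etale Ω R := hθE
  have hfin : Module.Finite Ω R := Algebra.FormallyUnramified.finite_of_free Ω R
  have hF : Finite (R →ₐ[Ω] Ω) := Finite.algHom Ω R Ω
  refine ⟨Set.range (fun e : R →ₐ[Ω] Ω => Spec.map (CommRingCat.ofHom e.toRingHom) ≫ i),
    Set.finite_range _, ?_, ?_⟩
  · rintro _ ⟨e, rfl⟩
    rw [Category.assoc, ← hθ, ← Spec.map_comp]
    have h1 : θ ≫ CommRingCat.ofHom e.toRingHom = 𝟙 _ := by
      ext x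
      exact e.commutes x
    rw [h1, Spec.map_id]
  · intro K _ m hm
    let m' : Spec (CommRingCat.of K) ⟶ Spec R := IsOpenImmersion.lift i m hm
    have hm' : m' ≫ i = m := IsOpenImmersion.lift_fac i m hm
    let ε : R ⟶ CommRingCat.of K := Spec.preimage m'
    have hε : Spec.map ε = m' := Spec.map_preimage _
    let algK : Algebra Ω K := (θ ≫ ε).hom.toAlgebra
    let εA : R →ₐ[Ω] K := { ε.hom with commutes' := fun x => rfl }
    have hint : ∀ x : R, ∃ y : Ω, algebraMap Ω K y = ε.hom x := by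
      intro x
      have h1 : IsIntegral Ω x := Algebra.IsIntegral.isIntegral x
      have h2 : IsIntegral Ω (εA x) := h1.map εA
      let Sx : Subalgebra Ω K := Algebra.adjoin Ω {εA x}
      have h3 : Algebra.IsIntegral Ω Sx := by
        refine ⟨fun z => ?_⟩
        have hz : IsIntegral Ω (z : K) :=
          IsIntegral.of_mem_of_fg Sx (IsIntegral.fg_adjoin_singleton h2) _ z.2
        exact (isIntegral_algHom_iff Sx.val Subtype.val_injective).1 hz
      obtain ⟨y, hy⟩ := (IsAlgClosed.algebraMap_bijective_of_isIntegral (k := Ω) (K := Sx)).2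
        ⟨εA x, Algebra.subset_adjoin (Set.mem_singleton _)⟩
      exact ⟨y, congrArg Subtype.val hy⟩
    choose ey hey using hint
    have hinj : Function.Injective (algebraMap Ω K) := (algebraMap Ω K).injective
    let e : R →ₐ[Ω] Ω :=
      { toFun := ey
        map_one' := hinj (by rw [hey, map_one, map_one])
        map_mul' := fun a b => hinj (by rw [hey, map_mul, map_mul, hey, hey])
        map_zero' := hinj (by rw [hey, map_zero, map_zero])
        map_add' := fun a b => hinj (by rw [hey, map_add, map_add, hey, hey])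
        commutes' := fun r => hinj (by rw [hey]; rfl) }
    refine ⟨_, ⟨e, rfl⟩, ?_⟩
    have h2 : CommRingCat.ofHom e.toRingHom ≫ (θ ≫ ε) = ε := by
      ext x
      exact hey x
    have h3 : m ≫ g = Spec.map (θ ≫ ε) := by
      rw [← hm', Category.assoc, ← hθ, ← hε, ← Spec.map_comp]
    rw [h3, ← Category.assoc, ← Spec.map_comp, h2, hε, hm']

/-- For a quasi-compact étale scheme over an algebraically closed field, every field-valued point
factors through one of finitely many sections. -/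
theorem exists_finite_sections {Ω : Type u} [Field Ω] [IsAlgClosed Ω] {Pl : Scheme.{u}}
    (g : Pl ⟶ Spec (CommRingCat.of Ω)) [Etale g] [QuasiCompact g] :
    ∃ 𝒮 : Set (Spec (CommRingCat.of Ω) ⟶ Pl), 𝒮.Finite ∧ (∀ s ∈ 𝒮, s ≫ g = 𝟙 _) ∧
      ∀ (K : Type u) [Field K] (m : Spec (CommRingCat.of K) ⟶ Pl),
        ∃ s ∈ 𝒮, m = (m ≫ g) ≫ s := by
  have hc : CompactSpace Pl := QuasiCompact.compactSpace_of_compactSpace g
  let 𝒰 : Pl.OpenCover := Pl.affineCover.finiteSubcover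
  have hJ : Finite 𝒰.I₀ := inferInstance
  have key : ∀ j : 𝒰.I₀, ∃ 𝒮 : Set (Spec (CommRingCat.of Ω) ⟶ Pl), 𝒮.Finite ∧
      (∀ s ∈ 𝒮, s ≫ g = 𝟙 _) ∧
      ∀ (K : Type u) [Field K] (m : Spec (CommRingCat.of K) ⟶ Pl),
        Set.range m ⊆ Set.range ((𝒰.X j).isoSpec.inv ≫ 𝒰.f j) → ∃ s ∈ 𝒮, m = (m ≫ g) ≫ s :=
    fun j => exists_finite_sections_aux g Γ(𝒰.X j, ⊤) ((𝒰.X j).isoSpec.inv ≫ 𝒰.f j)
  choose 𝒮 h1 h2 h3 using key
  refine ⟨⋃ j, 𝒮 j, Set.finite_iUnion h1, ?_, ?_⟩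
  · intro s hs
    obtain ⟨j, hj⟩ := Set.mem_iUnion.1 hs
    exact h2 j s hj
  · intro K _ m
    let pt : Spec (CommRingCat.of K) := IsLocalRing.closedPoint K
    obtain ⟨y, hy⟩ := 𝒰.covers (m pt)
    have hr : Set.range m ⊆ Set.range ((𝒰.X (𝒰.idx (m pt))).isoSpec.inv ≫ 𝒰.f (𝒰.idx (m pt))) := by
      rintro _ ⟨z, rfl⟩
      have hz : z = pt := Subsingleton.elim _ _
      rw [hz]
      refine ⟨(𝒰.X (𝒰.idx (m pt))).isoSpec.hom y, ?_⟩
      have e1 : ((𝒰.X (𝒰.idx (m pt))).isoSpec.hom ≫ (𝒰.X (𝒰.idx (m pt))).isoSpec.inv ≫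
          𝒰.f (𝒰.idx (m pt))) y = m pt := by
        rw [Iso.hom_inv_id_assoc]
        exact hy
      exact e1
    obtain ⟨s, hs, hms⟩ := h3 _ K m hr
    exact ⟨s, Set.mem_iUnion.2 ⟨_, hs⟩, hms⟩

end Groth.Agent.H53.DVRSp
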