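import Groth.Agent.H53.DVRSp.Main
import Groth.Agent.H53.NoSpecNoeth
import Groth.Agent.H53.Proper
import Groth.Agent.H52.QS

set_option autoImplicit false
set_option backward.isDefEq.respectTransparency false
universe u
open CategoryTheory CategoryTheory.Limits AlgebraicGeometry IsLocalRing
open AlgSp

namespace Groth.Agent.H53.DVRSp

open Groth.Agent.H53.RefVal Groth.Agent.H52

variable {S : Scheme.{u}}

/-- Lifts of discrete valuation squares through `U` pass to a base change. -/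
theorem dvr_lifts_of_isPullback {U X Y U₁ X₁ Y₁ : Sp S} {f : X ⟶ Y} {h : U ⟶ X} {d : Y₁ ⟶ Y}
    {g₁ : X₁ ⟶ X} {f₁ : X₁ ⟶ Y₁} (pb : IsPullback g₁ f₁ f d) {k₁ : U₁ ⟶ U} {h₁ : U₁ ⟶ X₁}
    (hk : k₁ ≫ h = h₁ ≫ g₁)
    (Hdvr : ∀ sq : ValSq (h ≫ f), IsDiscreteValuationRing sq.A →
      ∃ l : (yon S).obj sq.ptA ⟶ X, (yon S).map sq.j ≫ l = sq.top ≫ h ∧ l ≫ f = sq.bot) :
    ∀ sq₁ : ValSq (h₁ ≫ f₁), IsDiscreteValuationRing sq₁.A →
      ∃ l : (yon S).obj sq₁.ptA ⟶ X₁, (yon S).map sq₁.j ≫ l = sq₁.top ≫ h₁ ∧ l ≫ f₁ = sq₁.bot := by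
  intro sq₁ hA
  have w : k₁ ≫ (h ≫ f) = (h₁ ≫ f₁) ≫ d := by
    rw [← Category.assoc, hk, Category.assoc, pb.w, Category.assoc]
  obtain ⟨l, hl1, hl2⟩ := Hdvr (Groth.Agent.H53.pushValSq sq₁ k₁ d w) hA
  have hl1' : (yon S).map sq₁.j ≫ l = (sq₁.top ≫ k₁) ≫ h := hl1
  have hl2' : l ≫ f = sq₁.bot ≫ d := hl2
  refine ⟨pb.lift l sq₁.bot hl2', ?_, pb.lift_snd _ _ _⟩
  apply pb.hom_ext
  · rw [Category.assoc, pb.lift_fst, Category.assoc, ← hk, ← Category.assoc]
    exact hl1'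
  · rw [Category.assoc, pb.lift_snd, Category.assoc]
    exact sq₁.comm.symm

/-- Reduction of the existence of a lift (after extension) for squares through `U` to affine
étale charts of the target. -/
theorem hasLiftExt_through_of_affine {U X Y : Sp S} (hY : IsAlgSpace Y) (f : X ⟶ Y) (h : U ⟶ X)
    (Haff : ∀ (R : Type u) [CommRing R] (sR : Spec (CommRingCat.of R) ⟶ S)
      (d : (yon S).obj (Over.mk sR) ⟶ Y), RepWith @Etale d →
      ∀ sq₁ : ValSq (pullback.snd f d),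
        (∃ t₁ : (yon S).obj sq₁.ptK ⟶ pullback h (pullback.fst f d),
          t₁ ≫ pullback.snd h (pullback.fst f d) = sq₁.top) → sq₁.HasLiftExt)
    (sq : ValSq f) (t : (yon S).obj sq.ptK ⟶ U) (ht : t ≫ h = sq.top) : sq.HasLiftExt := by
  have hE : (RepWith (S := S) @Etale).IsMultiplicative := repWith_isMultiplicative _
  obtain ⟨V, d₀, v, hVaff, hd₀, hv₀⟩ :=
    Groth.Agent.H53.FibrePts.exists_affine_chart hY (Points.ofPt sq.bot (closedPoint sq.A))
  have _ : IsAffine V.left := hVaff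
  obtain ⟨R, _, sR, ⟨eV⟩⟩ := exists_affine_normal_form V
  let d : (yon S).obj (Over.mk sR) ⟶ Y := (yon S).map eV.hom ≫ d₀
  have hiso : Etale eV.hom.left := inferInstance
  have hde : RepWith @Etale d := hE.comp_mem _ _ ((repWith_yon_map_iff _ _).2 hiso) hd₀
  have pb : IsPullback (pullback.fst f d) (pullback.snd f d) f d := IsPullback.of_hasPullback _ _
  have pbU : IsPullback (pullback.fst h (pullback.fst f d)) (pullback.snd h (pullback.fst f d)) h
      (pullback.fst f d) := IsPullback.of_hasPullback _ _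
  -- lifting the bottom arrow
  have hb : Points.ofPt sq.bot (closedPoint sq.A) ∈ Set.range (Points.map d) := by
    refine ⟨Points.ofScheme _ (eV.inv.left v), ?_⟩
    rw [← Points.ofPt_eq_map_ofScheme, Groth.Agent.H53.FibrePts.ofPt_yon_map_comp, ← hv₀]
    congr 1
    change (eV.inv.left ≫ eV.hom.left) v = v
    rw [← Over.comp_left, Iso.inv_hom_id]
    rfl
  obtain ⟨A', _, _, _, φ, hφinj, hφloc, lb, hlb⟩ :=
    Groth.Agent.H53.exists_valuationRing_lift_of_flat (IsAlgSpace.yon_obj _) hY d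
      (Groth.Agent.H53.AffineChart.locP_flat_lfp_of_etale d hde).1 sq.A sq.str sq.bot hb
  let K' := FractionRing A'
  have hg : Function.Injective ((algebraMap A' K').comp φ) :=
    (IsFractionRing.injective A' K').comp hφinj
  let ψ : sq.K →+* K' := IsFractionRing.lift hg
  have hψ : ∀ a, ψ (algebraMap sq.A sq.K a) = algebraMap A' K' (φ a) :=
    fun a => IsFractionRing.lift_algebraMap hg a
  have r1 : ψ.comp (algebraMap sq.A sq.K) = (algebraMap A' K').comp φ := by
    ext a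
    exact hψ a
  have wψ : Spec.map (CommRingCat.ofHom ψ) ≫
      (Spec.map (CommRingCat.ofHom (algebraMap sq.A sq.K)) ≫ sq.str) =
      Spec.map (CommRingCat.ofHom (algebraMap A' K')) ≫
        Spec.map (CommRingCat.ofHom φ) ≫ sq.str := by
    spec_w
    exact spec_eq_of_eq sq.str r1
  have hlb' : lb ≫ d = (yon S).map (spHom φ rfl) ≫ sq.bot := hlb
  have hcomm' : sq.top ≫ f = (yon S).map (spHom (algebraMap sq.A sq.K) rfl) ≫ sq.bot := sq.comm
  have htopw : ((yon S).map (spHom ψ wψ) ≫ sq.top) ≫ f =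
      ((yon S).map (spHom (algebraMap A' K') rfl) ≫ lb) ≫ d := by
    rw [Category.assoc, hcomm', Category.assoc, hlb', yon_spHom_comp_assoc, yon_spHom_comp_assoc]
    exact congrArg (· ≫ sq.bot) (yon_spHom_congr _ _ r1)
  let sq₁ : ValSq (pullback.snd f d) :=
    { A := A', K := K', str := Spec.map (CommRingCat.ofHom φ) ≫ sq.str
      top := pb.lift ((yon S).map (spHom ψ wψ) ≫ sq.top)
        ((yon S).map (spHom (algebraMap A' K') rfl) ≫ lb) htopw
      bot := lb
      comm := pb.lift_snd _ _ _ }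
  have htU : ((yon S).map (spHom ψ wψ) ≫ t) ≫ h = sq₁.top ≫ pullback.fst f d := by
    rw [Category.assoc, ht]
    exact (pb.lift_fst _ _ _).symm
  obtain ⟨e₂, l₂, hl₂1, hl₂2⟩ := Haff R sR d hde sq₁
    ⟨pbU.lift ((yon S).map (spHom ψ wψ) ≫ t) sq₁.top htU, pbU.lift_snd _ _ _⟩
  -- composing the extensions
  let φ₂ : A' →+* e₂.A' := e₂.φ
  let ψ₂ : K' →+* e₂.K' := e₂.ψ
  have hcomm₂ : (algebraMap e₂.A' e₂.K').comp φ₂ = ψ₂.comp (algebraMap A' K') := e₂.comm
  have hloc₂ : IsLocalHom φ₂ := e₂.isLocalHom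
  have wψ₂ : Spec.map (CommRingCat.ofHom ψ₂) ≫ (Spec.map (CommRingCat.ofHom (algebraMap A' K')) ≫
      Spec.map (CommRingCat.ofHom φ) ≫ sq.str) =
      Spec.map (CommRingCat.ofHom (algebraMap e₂.A' e₂.K')) ≫
        Spec.map (CommRingCat.ofHom φ₂) ≫ Spec.map (CommRingCat.ofHom φ) ≫ sq.str := by
    spec_w
    refine spec_eq_of_eq sq.str ?_
    rw [← RingHom.comp_assoc, ← RingHom.comp_assoc, hcomm₂]
  have hl₂1' : (yon S).map (spHom (algebraMap e₂.A' e₂.K') rfl) ≫ l₂ =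
      (yon S).map (spHom ψ₂ wψ₂) ≫ pb.lift ((yon S).map (spHom ψ wψ) ≫ sq.top)
        ((yon S).map (spHom (algebraMap A' K') rfl) ≫ lb) htopw := hl₂1
  have hl₂2' : l₂ ≫ pullback.snd f d = (yon S).map (spHom φ₂ rfl) ≫ lb := hl₂2
  have wφt : Spec.map (CommRingCat.ofHom (φ₂.comp φ)) ≫ sq.str =
      Spec.map (CommRingCat.ofHom φ₂) ≫ Spec.map (CommRingCat.ofHom φ) ≫ sq.str := by
    spec_w
  have hcommt : (algebraMap e₂.A' e₂.K').comp (φ₂.comp φ) =
      (ψ₂.comp ψ).comp (algebraMap sq.A sq.K) := by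
    rw [← RingHom.comp_assoc, hcomm₂, RingHom.comp_assoc, RingHom.comp_assoc, r1]
  have wψt : Spec.map (CommRingCat.ofHom (ψ₂.comp ψ)) ≫
      (Spec.map (CommRingCat.ofHom (algebraMap sq.A sq.K)) ≫ sq.str) =
      Spec.map (CommRingCat.ofHom (algebraMap e₂.A' e₂.K')) ≫
        Spec.map (CommRingCat.ofHom φ₂) ≫ Spec.map (CommRingCat.ofHom φ) ≫ sq.str := by
    spec_w
    refine spec_eq_of_eq sq.str ?_
    exact hcommt.symm
  have hloct : IsLocalHom (φ₂.comp φ) := by
    have i1 : IsLocalHom φ := hφloc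
    have i2 : IsLocalHom φ₂ := hloc₂
    exact RingHom.isLocalHom_comp _ _
  refine hasLiftExt_of_lift sq (φ₂.comp φ) (ψ₂.comp ψ) hcommt hloct wφt rfl wψt
    (l₂ ≫ pullback.fst f d) ?_ ?_
  · have e1 := congrArg (· ≫ pullback.fst f d) hl₂1'
    refine (Category.assoc _ _ _).symm.trans (e1.trans ?_)
    rw [Category.assoc, pb.lift_fst, yon_spHom_comp_assoc]
  · have e2 := congrArg (· ≫ d) hl₂2'
    rw [Category.assoc, pb.w]
    refine (Category.assoc _ _ _).symm.trans (e2.trans ?_)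
    rw [Category.assoc, hlb', yon_spHom_comp_assoc]

/-- The Noetherian valuative criterion through a dense `U`: universal closedness. -/
theorem isUnivClosedMor_of_dvr_through {U X Y : Sp S} (hU : IsAlgSpace U) (hX : IsAlgSpace X)
    (hY : IsAlgSpace Y) (h : U ⟶ X) (f : X ⟶ Y) (hYN : IsLocNoethSp Y) (hfs : IsSeparatedMor f)
    (hft : IsFiniteTypeMor f) (hh : IsFiniteTypeMor h) (hdense : Dense (Set.range (Points.map h)))
    (hval : ∀ sq : ValSq (h ≫ f), IsDiscreteValuationRing sq.A →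
      ∃ l : (yon S).obj sq.ptA ⟶ X, (yon S).map sq.j ≫ l = sq.top ≫ h ∧ l ≫ f = sq.bot) :
    IsUnivClosedMor f := by
  have hfqs : IsQuasiSeparatedMor f :=
    Groth.Agent.H53.repWith_of_le (fun _ _ φ hφ => by have := hφ; infer_instance) hfs
  have hu := Groth.Agent.H53.uniqVC_of_isSeparatedMor f hfs
  refine (refined_valuative hU hX hY f h hft.2 hh.2 hdense ?_).1
  rintro sq ⟨t, ht⟩
  refine ⟨hu sq, ?_⟩
  refine hasLiftExt_through_of_affine hY f h ?_ sq t ht
  rintro R _ sR d hde sq₁ ⟨t₁, ht₁⟩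
  have pb : IsPullback (pullback.fst f d) (pullback.snd f d) f d := IsPullback.of_hasPullback _ _
  have pbU : IsPullback (pullback.fst h (pullback.fst f d)) (pullback.snd h (pullback.fst f d)) h
      (pullback.fst f d) := IsPullback.of_hasPullback _ _
  have hX₁ : IsAlgSpace (pullback f d) := isAlgSpace_of_isPullback pb hX hY (IsAlgSpace.yon_obj _)
  have hU₁ : IsAlgSpace (pullback h (pullback.fst f d)) := isAlgSpace_of_isPullback pbU hU hX hX₁
  have hLN : IsLocallyNoetherian (Over.mk sR).left :=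
    Groth.Agent.H53.isLocallyNoetherian_of_etale_chart hYN d hde
  have hRN : IsNoetherianRing R := isLocallyNoetherian_Spec.1 hLN
  exact hasLiftExt_of_dvr_lifts_affine sR hU₁ hX₁ (pullback.snd f d)
    (pullback.snd h (pullback.fst f d))
    (isEtLocal_lft.locP_of_isPullback hX hY (IsAlgSpace.yon_obj _) pb hft.1)
    (isQuasiCompactMor_of_isPullback pb hft.2)
    (repWith_diagonal_of_isPullback @QuasiCompact pb hfqs)
    (isEtLocal_lft.locP_of_isPullback hU hX hX₁ pbU hh.1)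
    (dvr_lifts_of_isPullback pb pbU.w hval) sq₁ t₁ ht₁

end Groth.Agent.H53.DVRSp
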